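import Mathlib
import Cfsg.Prelude.Def_GeometricClasses

/-!
# S5707 (tensor-wreath stabiliser `Sp_k(q) wr S_t`, `q` even, `k ≤ 4`, is not maximal in `Ω⁺`): definitions

The overgroup is the spin image of `Sp_{kt}(q)`, realised concretely as the normaliser in `Ω` of the
"Clifford space" `calV L` spanned by the local operators `loc i A`, `A ∈ L`, where `L` is the 3-dimensional
space `sl₂` (`k = 2`) or a 5-dimensional space of `4 × 4` matrices (`k = 4`).
Standard model: index set `X k t = Fin t → Fin k`, no `e`, no `P`.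
-/

set_option autoImplicit false

namespace Cfsg.Agent.S5707P

open Matrix

variable {F : Type*} [Field F] {k t : ℕ}

/-- index set of the `t`-fold tensor power of `F^k` -/
abbrev X (k t : ℕ) : Type := Fin t → Fin k

/-- the pure tensor `M₀ ⊗ ⋯ ⊗ M_{t-1}` as a matrix on `X k t` -/
def tensM (Ms : Fin t → Matrix (Fin k) (Fin k) F) : Matrix (X k t) (X k t) F :=
  fun x y => ∏ i, Ms i (x i) (y i)

/-- the family `1, …, 1, M (site i), 1, …, 1` -/
def upd1 (i : Fin t) (M : Matrix (Fin k) (Fin k) F) : Fin t → Matrix (Fin k) (Fin k) F :=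
  Function.update (fun _ => (1 : Matrix (Fin k) (Fin k) F)) i M

/-- the local operator `M` at site `i` -/
def loc (i : Fin t) (M : Matrix (Fin k) (Fin k) F) : Matrix (X k t) (X k t) F :=
  tensM (upd1 i M)

/-- the two-site operator `A` at site `i`, `B` at site `j` -/
def loc2 (i j : Fin t) (A B : Matrix (Fin k) (Fin k) F) : Matrix (X k t) (X k t) F :=
  tensM (Function.update (upd1 i A) j B)

/-- the three-site operator `A` at site `i`, `B` at site `j`, `C` at site `l` -/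
def loc3 (i j l : Fin t) (A B C : Matrix (Fin k) (Fin k) F) : Matrix (X k t) (X k t) F :=
  tensM (Function.update (Function.update (upd1 i A) j B) l C)

/-- the matrix permuting the `t` tensor factors by `σ` (as in `Cfsg.Geo.IsFactorPermutation`) -/
def permM (k : ℕ) (σ : Equiv.Perm (Fin t)) : Matrix (X k t) (X k t) F :=
  fun x y => if y = x ∘ σ then 1 else 0

/-- the "Clifford space": span of the local operators `loc i A`, `A ∈ L` -/
def calV (L : Submodule F (Matrix (Fin k) (Fin k) F)) : Submodule F (Matrix (X k t) (X k t) F) :=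
  Submodule.span F {M | ∃ (i : Fin t) (A : Matrix (Fin k) (Fin k) F), A ∈ L ∧ M = loc i A}

/-- the normaliser of `calV L` in `GL` -/
def normV (L : Submodule F (Matrix (Fin k) (Fin k) F)) : Subgroup (GL (X k t) F) where
  carrier := {g | ∀ M : Matrix (X k t) (X k t) F,
    (g : Matrix (X k t) (X k t) F) * M * ((g⁻¹ : GL (X k t) F) : Matrix (X k t) (X k t) F) ∈ calV (t := t) L ↔
      M ∈ calV (t := t) L}
  mul_mem' := by
    intro a b ha hb M
    have h1 := ha ((b : Matrix (X k t) (X k t) F) * M * ((b⁻¹ : GL (X k t) F) : Matrix (X k t) (X k t) F))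
    have h2 := hb M
    rw [← h2, ← h1]
    have : (((a * b : GL (X k t) F)) : Matrix (X k t) (X k t) F) * M *
        (((a * b)⁻¹ : GL (X k t) F) : Matrix (X k t) (X k t) F) =
        (a : Matrix (X k t) (X k t) F) * ((b : Matrix (X k t) (X k t) F) * M *
          ((b⁻¹ : GL (X k t) F) : Matrix (X k t) (X k t) F)) *
          ((a⁻¹ : GL (X k t) F) : Matrix (X k t) (X k t) F) := by
      rw [_root_.mul_inv_rev, Units.val_mul, Units.val_mul]
      simp only [Matrix.mul_assoc]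
    rw [this]
  one_mem' := by
    intro M
    simp
  inv_mem' := by
    intro a ha M
    have h1 := ha (((a⁻¹ : GL (X k t) F) : Matrix (X k t) (X k t) F) * M * (a : Matrix (X k t) (X k t) F))
    rw [inv_inv, ← h1]
    have : (a : Matrix (X k t) (X k t) F) *
        (((a⁻¹ : GL (X k t) F) : Matrix (X k t) (X k t) F) * M * (a : Matrix (X k t) (X k t) F)) *
        ((a⁻¹ : GL (X k t) F) : Matrix (X k t) (X k t) F) = M := by
      rw [Matrix.mul_assoc, Matrix.mul_assoc, ← Units.val_mul, mul_inv_cancel, Units.val_one, Matrix.mul_one,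
        ← Matrix.mul_assoc, ← Units.val_mul, mul_inv_cancel, Units.val_one, Matrix.one_mul]
    rw [this]

/-- Standard-model data: `Q` is a quadratic form on `F^(X k t)` whose polar form has Gram matrix
`c • (G ⊗ ⋯ ⊗ G)` and which vanishes on all pure tensors. -/
structure StdQ (G : Matrix (Fin k) (Fin k) F) (c : F) (Q : (X k t → F) → F) : Prop where
  smul : ∀ (a : F) (v : X k t → F), Q (a • v) = a ^ 2 * Q v
  polar : ∀ v w : X k t → F,
    QuadraticMap.polar Q v w = c * ∑ a, ∑ b, v a * (∏ i, G (a i) (b i)) * w b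
  pure : ∀ xs : Fin t → (Fin k → F), Q (fun a => ∏ i, xs i (a i)) = 0

/-- the square-zero involution `1 + N` (`N * N = 0`, characteristic 2) as an element of `GL` -/
def invo [CharP F 2] (N : Matrix (X k t) (X k t) F) (hN : N * N = 0) : GL (X k t) F where
  val := 1 + N
  inv := 1 + N
  val_inv := by
    have h2 : N + N = 0 := Matrix.ext fun i j => CharTwo.add_self_eq_zero (N i j)
    rw [Matrix.add_mul, Matrix.mul_add, Matrix.mul_add, hN]
    simp only [Matrix.one_mul, Matrix.mul_one, add_zero]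
    rw [add_assoc, h2, add_zero]
  inv_val := by
    have h2 : N + N = 0 := Matrix.ext fun i j => CharTwo.add_self_eq_zero (N i j)
    rw [Matrix.add_mul, Matrix.mul_add, Matrix.mul_add, hN]
    simp only [Matrix.one_mul, Matrix.mul_one, add_zero]
    rw [add_assoc, h2, add_zero]

/-! ### local matrices, `k = 2` -/

/-- the Gram matrix of the standard symplectic form on `F^2` (characteristic 2: `J = Jᵀ`) -/
def J2 : Matrix (Fin 2) (Fin 2) F := !![0, 1; 1, 0]
/-- `E₁₂` -/
def E2 : Matrix (Fin 2) (Fin 2) F := !![0, 1; 0, 0]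
/-- `E₂₁` -/
def E2' : Matrix (Fin 2) (Fin 2) F := !![0, 0; 1, 0]

/-- `sl₂` in characteristic 2 (`trace = 0 ↔ M₀₀ = M₁₁`): the local Clifford space for `k = 2` -/
def L2 : Submodule F (Matrix (Fin 2) (Fin 2) F) where
  carrier := {M | M 0 0 = M 1 1}
  add_mem' := by
    intro a b ha hb
    show (a + b) 0 0 = (a + b) 1 1
    rw [Matrix.add_apply, Matrix.add_apply, ha, hb]
  zero_mem' := rfl
  smul_mem' := by
    intro c a ha
    show (c • a) 0 0 = (c • a) 1 1
    rw [Matrix.smul_apply, Matrix.smul_apply, ha]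

/-! ### local matrices, `k = 4` (`F^4 = F^2 ⊗ F^2`, basis order `11, 12, 21, 22 = 0, 1, 2, 3`) -/

/-- the Gram matrix `J ⊗ J` (antidiagonal) -/
def J4 : Matrix (Fin 4) (Fin 4) F := !![0, 0, 0, 1; 0, 0, 1, 0; 0, 1, 0, 0; 1, 0, 0, 0]
/-- `E₁₂ ⊗ 1` -/
def Ea : Matrix (Fin 4) (Fin 4) F := !![0, 0, 1, 0; 0, 0, 0, 1; 0, 0, 0, 0; 0, 0, 0, 0]
/-- `E₂₁ ⊗ 1` -/
def Ea' : Matrix (Fin 4) (Fin 4) F := !![0, 0, 0, 0; 0, 0, 0, 0; 1, 0, 0, 0; 0, 1, 0, 0]
/-- `1 ⊗ E₁₂` -/
def Eb : Matrix (Fin 4) (Fin 4) F := !![0, 1, 0, 0; 0, 0, 0, 0; 0, 0, 0, 1; 0, 0, 0, 0]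
/-- `1 ⊗ E₂₁` -/
def Eb' : Matrix (Fin 4) (Fin 4) F := !![0, 0, 0, 0; 1, 0, 0, 0; 0, 0, 0, 0; 0, 0, 1, 0]
/-- `E₁₂ ⊗ E₁₂` -/
def Eab : Matrix (Fin 4) (Fin 4) F := !![0, 0, 0, 1; 0, 0, 0, 0; 0, 0, 0, 0; 0, 0, 0, 0]

/-- the local Clifford space for `k = 4`: `span {1, Ea, Ea', Eb, Eb'}`, given by linear conditions -/
def L4 : Submodule F (Matrix (Fin 4) (Fin 4) F) where
  carrier := {M | M 0 0 = M 1 1 ∧ M 1 1 = M 2 2 ∧ M 2 2 = M 3 3 ∧ M 0 2 = M 1 3 ∧ M 2 0 = M 3 1 ∧
    M 0 1 = M 2 3 ∧ M 1 0 = M 3 2 ∧ M 0 3 = 0 ∧ M 3 0 = 0 ∧ M 1 2 = 0 ∧ M 2 1 = 0}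
  add_mem' := by
    rintro a b ⟨a1, a2, a3, a4, a5, a6, a7, a8, a9, a10, a11⟩ ⟨b1, b2, b3, b4, b5, b6, b7, b8, b9, b10, b11⟩
    simp only [Set.mem_ofPred_eq, Matrix.add_apply]
    refine ⟨by rw [a1, b1], by rw [a2, b2], by rw [a3, b3], by rw [a4, b4], by rw [a5, b5], by rw [a6, b6],
      by rw [a7, b7], by rw [a8, b8, add_zero], by rw [a9, b9, add_zero], by rw [a10, b10, add_zero],
      by rw [a11, b11, add_zero]⟩
  zero_mem' := by
    simp
  smul_mem' := by
    rintro c a ⟨a1, a2, a3, a4, a5, a6, a7, a8, a9, a10, a11⟩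
    simp only [Set.mem_ofPred_eq, Matrix.smul_apply]
    refine ⟨by rw [a1], by rw [a2], by rw [a3], by rw [a4], by rw [a5], by rw [a6], by rw [a7],
      by rw [a8, smul_zero], by rw [a9, smul_zero], by rw [a10, smul_zero], by rw [a11, smul_zero]⟩

end Cfsg.Agent.S5707P
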