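import Mathlib
import Cfsg.Prelude.Def_GeometricClasses
import Cfsg.Agent.Helper18.S5707.Defs
import Cfsg.Agent.Helper8.S5707ARITH
import Cfsg.Agent.Helper11.S5707CHAR2
import Cfsg.Agent.Helper18.S5707COMM
import Cfsg.Agent.Helper17.S5707ENT
import Cfsg.Agent.Helper17.S5707GRAM
import Cfsg.Agent.Helper8.S5707GRAM2
import Cfsg.Agent.Helper3.S5707GRAM4
import Cfsg.Agent.Helper22.S5707INVNORM
import Cfsg.Agent.Helper6.S5707ISO
import Cfsg.Agent.Helper6.S5707ISOMEM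
import Cfsg.Agent.Helper23.S5707K2CONJ
import Cfsg.Agent.Helper16.S5707K2STD
import Cfsg.Agent.Lead.S5707K2YNORM
import Cfsg.Agent.Helper16.S5707K2YNOTSTD
import Cfsg.Agent.Helper18.S5707K2YOMEGA
import Cfsg.Agent.Helper4.S5707K2ZNOTNORM
import Cfsg.Agent.Helper18.S5707K2ZOMEGA
import Cfsg.Agent.Helper28.S5707K4CONJ
import Cfsg.Agent.Helper28.S5707K4IFF
import Cfsg.Agent.Helper4.S5707K4STD
import Cfsg.Agent.Lead.S5707K4YNORM
import Cfsg.Agent.Helper23.S5707K4YNOTSTD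
import Cfsg.Agent.Helper11.S5707K4ZNOTNORM
import Cfsg.Agent.Helper25.S5707NF
import Cfsg.Agent.Helper25.S5707NORMSTD
import Cfsg.Agent.Helper3.S5707NOTSTD
import Cfsg.Agent.Helper19.S5707PERM
import Cfsg.Agent.Helper23.S5707RANK1
import Cfsg.Agent.Helper12.S5707REDLOC
import Cfsg.Agent.Helper21.S5707REDSCAL
import Cfsg.Agent.Helper21.S5707REDSTD
import Cfsg.Agent.Helper10.S5707SIMIL
import Cfsg.Agent.Helper20.S5707SUPP
import Cfsg.Agent.Helper22.S5707SYMZ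
import Cfsg.Agent.Helper20.S5707TENS
import Cfsg.Agent.Helper20.S5707TENSV
import Cfsg.Agent.Helper19.S5707K4YOMEGA
import Cfsg.Agent.Helper23.S5707K4ZOMEGA

set_option autoImplicit false

namespace Cfsg.Agent.S5707P

open Matrix

variable {F : Type*} [Field F] {k t : ℕ}

theorem ASM.E2_sq : (E2 : Matrix (Fin 2) (Fin 2) F) * E2 = 0 := by
  ext i j
  fin_cases i <;> fin_cases j <;> simp [E2, Matrix.mul_apply, Fin.sum_univ_two]

theorem ASM.Ea_sq : (Ea : Matrix (Fin 4) (Fin 4) F) * Ea = 0 := by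
  ext i j
  fin_cases i <;> fin_cases j <;> simp [Ea, Matrix.mul_apply, Fin.sum_univ_four]

theorem ASM.Eab_sq : (Eab : Matrix (Fin 4) (Fin 4) F) * Eab = 0 := by
  ext i j
  fin_cases i <;> fin_cases j <;> simp [Eab, Matrix.mul_apply, Fin.sum_univ_four]

/-- the `k = 2` core: the normaliser of `calV L2` in `Ω` lies strictly between. -/
theorem K2.core [CharP F 2] (ht : 4 ≤ t) {c : F} {Q : (X 2 t → F) → F}
    (hQ : StdQ (J2 : Matrix (Fin 2) (Fin 2) F) c Q) :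
    ∃ K : Subgroup (GL (X 2 t) F), Cfsg.Geo.tensorWreathStandard 2 t F ⊓ Cfsg.Geo.omegaGL Q < K ∧
      K < Cfsg.Geo.omegaGL Q := by
  have h0 : (0 : ℕ) < t := by omega
  have h1 : (1 : ℕ) < t := by omega
  have h2 : (2 : ℕ) < t := by omega
  have h3 : (3 : ℕ) < t := by omega
  set s0 : Fin t := ⟨0, h0⟩
  set s1 : Fin t := ⟨1, h1⟩
  set s2 : Fin t := ⟨2, h2⟩
  set s3 : Fin t := ⟨3, h3⟩
  have h01 : s0 ≠ s1 := by simp [s0, s1, Fin.ext_iff]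
  have h02 : s0 ≠ s2 := by simp [s0, s2, Fin.ext_iff]
  have h03 : s0 ≠ s3 := by simp [s0, s3, Fin.ext_iff]
  have h12 : s1 ≠ s2 := by simp [s1, s2, Fin.ext_iff]
  have h13 : s1 ≠ s3 := by simp [s1, s3, Fin.ext_iff]
  have h23 : s2 ≠ s3 := by simp [s2, s3, Fin.ext_iff]
  have hNy : loc2 s1 s2 (E2 : Matrix (Fin 2) (Fin 2) F) E2 * loc2 s1 s2 E2 E2 = 0 := by
    unfold loc2
    refine TENS.tensM_sq_zero _ s2 ?_
    rw [Function.update_self]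
    exact ASM.E2_sq
  have hNz : loc3 s1 s2 s3 (E2 : Matrix (Fin 2) (Fin 2) F) E2 E2 * loc3 s1 s2 s3 E2 E2 E2 = 0 := by
    unfold loc3
    refine TENS.tensM_sq_zero _ s3 ?_
    rw [Function.update_self]
    exact ASM.E2_sq
  refine ⟨normV (t := t) (L2 : Submodule F (Matrix (Fin 2) (Fin 2) F)) ⊓ Cfsg.Geo.omegaGL Q, ?_, ?_⟩
  · refine lt_of_le_of_ne (le_inf (inf_le_left.trans K2.std_le_normV) inf_le_right) ?_
    intro heq
    have hy : invo (loc2 s1 s2 E2 E2) hNy ∈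
        normV (t := t) (L2 : Submodule F (Matrix (Fin 2) (Fin 2) F)) ⊓ Cfsg.Geo.omegaGL Q :=
      ⟨K2.y_mem_normV s1 s2 h12 hNy, K2.y_mem_omegaGL hQ s0 s1 s2 h01 h02 h12 hNy⟩
    rw [← heq] at hy
    exact K2.y_not_std s1 s2 h12 hNy hy.1
  · refine lt_of_le_of_ne inf_le_right ?_
    intro heq
    have hz := K2.z_mem_omegaGL hQ s0 s1 s2 s3 h01 h02 h03 h12 h13 h23 hNz
    rw [← heq] at hz
    exact K2.z_not_normV s1 s2 s3 h12 h13 h23 hNz hz.1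

/-- the `k = 4` core. -/
theorem K4.core [CharP F 2] (ht : 2 ≤ t) {c : F} {Q : (X 4 t → F) → F}
    (hQ : StdQ (J4 : Matrix (Fin 4) (Fin 4) F) c Q) (hc : c ≠ 0) :
    ∃ K : Subgroup (GL (X 4 t) F), Cfsg.Geo.tensorWreathStandard 4 t F ⊓ Cfsg.Geo.omegaGL Q < K ∧
      K < Cfsg.Geo.omegaGL Q := by
  have h0 : (0 : ℕ) < t := by omega
  have h1 : (1 : ℕ) < t := by omega
  set s0 : Fin t := ⟨0, h0⟩
  set s1 : Fin t := ⟨1, h1⟩
  have h01 : s0 ≠ s1 := by simp [s0, s1, Fin.ext_iff]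
  have hNy : loc2 s0 s1 (Eb : Matrix (Fin 4) (Fin 4) F) Ea * loc2 s0 s1 Eb Ea = 0 := by
    unfold loc2
    refine TENS.tensM_sq_zero _ s1 ?_
    rw [Function.update_self]
    exact ASM.Ea_sq
  have hNz : loc2 s0 s1 (Eb : Matrix (Fin 4) (Fin 4) F) Eab * loc2 s0 s1 Eb Eab = 0 := by
    unfold loc2
    refine TENS.tensM_sq_zero _ s1 ?_
    rw [Function.update_self]
    exact ASM.Eab_sq
  refine ⟨normV (t := t) (L4 : Submodule F (Matrix (Fin 4) (Fin 4) F)) ⊓ Cfsg.Geo.omegaGL Q, ?_, ?_⟩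
  · refine lt_of_le_of_ne (le_inf (K4.std_omega_le_normV hQ hc) inf_le_right) ?_
    intro heq
    have hy : invo (loc2 s0 s1 Eb Ea) hNy ∈
        normV (t := t) (L4 : Submodule F (Matrix (Fin 4) (Fin 4) F)) ⊓ Cfsg.Geo.omegaGL Q :=
      ⟨K4.y_mem_normV s0 s1 h01 hNy, K4.y_mem_omegaGL hQ s0 s1 h01 hNy⟩
    rw [← heq] at hy
    exact K4.y_not_std s0 s1 h01 hNy hy.1
  · refine lt_of_le_of_ne inf_le_right ?_
    intro heq
    have hz := K4.z_mem_omegaGL hQ s0 s1 h01 hNz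
    rw [← heq] at hz
    exact K4.z_not_normV s0 s1 h01 hNz hz.1

theorem ASM.main {F : Type*} [Field F] [Fintype F] {n : ℕ} (hn : 13 ≤ n) (heven : Even n) (Q : (Fin n → F) → F) (hQ : Cfsg.Geo.IsNondegenerateQuadraticForm Q) (hplus : Cfsg.Geo.IsPlusTypeOn Q ⊤) (hchar : ¬ Odd (Fintype.card F)) (k t : ℕ) (ht : 2 ≤ t) (hk : k ≤ 4) (hex1 : ¬ (Fintype.card F = 2 ∧ k = 2)) (e : (Fin n) ≃ (Fin t → Fin k)) (P : Matrix.GeneralLinearGroup (Fin n) F) (f₁ : (Fin k → F) → (Fin k → F) → F) (hf₁ : Cfsg.Geo.IsSymplecticForm f₁) (hT : Cfsg.Geo.IsTensorPowerFormStructure id (QuadraticMap.polar Q) f₁ e P) (hpure : (∀ xs : Fin t → (Fin k → F), Q (Matrix.mulVec (P : Matrix (Fin n) (Fin n) F) ((fun a : Fin t → Fin k => ∏ i, xs i (a i)) ∘ e)) = 0)) : ∃ K : Subgroup (Matrix.GeneralLinearGroup (Fin n) F), Cfsg.Geo.tensorWreathSubgroup k t e P ⊓ Cfsg.Geo.omegaGL Q < K ∧ K < Cfsg.Geo.omegaGL Q := by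
  classical
  have : CharP F 2 := CHAR2.charP hchar
  obtain ⟨c, hc, hstd, hred⟩ := REDSTD.reduce Q hQ e P f₁ hT hpure
  apply hred
  rcases ARITH.cases hn heven k t ht hk e with ⟨rfl, ht4⟩ | ⟨rfl, ht2⟩
  · obtain ⟨lam, hlam, hG⟩ := GRAM2.gram f₁ hf₁
    rw [hG] at hstd
    exact K2.core ht4 (REDSCAL.scal lam hstd)
  · obtain ⟨A, hA⟩ := GRAM4.basis f₁ hf₁
    obtain ⟨hstd', hred'⟩ := REDLOC.change hstd A
    apply hred'
    rw [hA] at hstd'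
    exact K4.core ht2 hstd' hc

end Cfsg.Agent.S5707P
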